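import Mathlib
import Cfsg.Agent.Unitary.Field

/-!
# The Heisenberg model of a Sylow 2-subgroup of `SU₃(2ⁿ)`

`Heis F n`: pairs `(a, b)` with `b + b ^ q = a * a ^ q`, `q = 2 ^ n`, with
`(a, b) (c, d) = (a + c, b + d + a ^ q c)`.
-/

set_option autoImplicit false
set_option linter.unusedSectionVars false

namespace Cfsg.Agent.H33.SylU

open Cfsg.Agent.Unitary
open scoped commutatorElement

/-- The field has `q ^ 2` elements, `q = 2 ^ n`. -/
class QField (F : Type*) [Field F] [Fintype F] (n : outParam ℕ) : Prop where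
  card : Fintype.card F = (2 ^ n) ^ 2

variable {F : Type*} [Field F] [Fintype F] {n : ℕ} [hQ : QField F n]

include hQ

theorem n_pos : 0 < n := by
  rcases Nat.eq_zero_or_pos n with rfl | h
  · have := two_le_q (hQ.card); simp at this
  · exact h

theorem charTwo : CharP F 2 := by
  obtain ⟨p, f, hp, hf, hc, h⟩ := exists_char_pow (hQ.card)
  have hd : p ∣ 2 ^ n := h ▸ dvd_pow_self p hf.ne'
  have h2 : p ∣ 2 := hp.dvd_of_dvd_pow hd
  rwa [(Nat.prime_dvd_prime_iff_eq hp Nat.prime_two).1 h2] at hc

theorem two_zero : (2 : F) = 0 := by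
  have := charTwo (F := F)
  exact CharTwo.two_eq_zero

theorem add_self (x : F) : x + x = 0 := by
  linear_combination x * two_zero (F := F)

/-- Conjugation `x ↦ x ^ q`. -/
def cj2 {F : Type*} [Field F] (n : ℕ) (x : F) : F := x ^ (2 ^ n)

local notation "c[" x "]" => cj2 n x

theorem cj2_add (x y : F) : c[x + y] = c[x] + c[y] := add_pow_q hQ.card x y

theorem cj2_mul (x y : F) : c[x * y] = c[x] * c[y] := mul_pow x y _

theorem cj2_cj2 (x : F) : c[c[x]] = x := pow_q_q hQ.card x

@[simp] theorem cj2_one : c[(1 : F)] = 1 := one_pow _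

theorem cj2_zero : c[(0 : F)] = 0 := zero_pow (pow_ne_zero n two_ne_zero)

theorem cj2_eq_zero {x : F} : c[x] = 0 ↔ x = 0 := pow_q_eq_zero_iff hQ.card

/-- Trace to the fixed field. -/
def tr {F : Type*} [Field F] (n : ℕ) (x : F) : F := x + cj2 n x

/-- Norm to the fixed field. -/
def nm {F : Type*} [Field F] (n : ℕ) (x : F) : F := x * cj2 n x

theorem tr_fixed (x : F) : c[tr n x] = tr n x := by
  rw [tr, cj2_add, cj2_cj2, add_comm]

theorem nm_fixed (x : F) : c[nm n x] = nm n x := by
  rw [nm, cj2_mul, cj2_cj2, mul_comm]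

theorem tr_eq_zero_iff {x : F} : tr n x = 0 ↔ c[x] = x := by
  unfold tr
  constructor
  · intro h; linear_combination h - add_self (n := n) x
  · intro h; rw [h, add_self]

theorem nm_eq_zero {x : F} : nm n x = 0 ↔ x = 0 := by
  simp [nm, cj2_eq_zero]

/-- The fixed field of `x ↦ x ^ q`, as a set. -/
abbrev Fix (F : Type*) [Field F] (n : ℕ) : Type _ := {x : F // cj2 n x = x}

theorem card_fix : Nat.card (Fix F n) = 2 ^ n := by
  rw [← card_trace_zero (F := F) hQ.card]
  exact Nat.card_congr (Equiv.subtypeEquivRight fun x => (tr_eq_zero_iff (x := x)).symm)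

theorem exists_tr_eq {z : F} (hz : c[z] = z) : ∃ b : F, tr n b = z := exists_trace_eq hQ.card hz

theorem exists_nm_eq {z : F} (hz : c[z] = z) : ∃ a : F, nm n a = z := exists_norm_eq hQ.card hz

theorem exists_not_fixed : ∃ x : F, c[x] ≠ x := by
  by_contra h
  push Not at h
  have h1 : Nat.card (Fix F n) = Nat.card F :=
    Nat.card_congr ⟨fun x => x.1, fun x => ⟨x, h x⟩, fun _ => rfl, fun _ => rfl⟩
  rw [card_fix, Nat.card_eq_fintype_card, hQ.card, ← pow_mul] at h1
  have h2 := Nat.pow_right_injective le_rfl h1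
  have := n_pos (F := F)
  omega

/-- The model group. -/
@[ext]
structure Heis (F : Type*) [Field F] (n : ℕ) where
  /-- first coordinate -/
  a : F
  /-- second coordinate -/
  b : F
  cond : tr n b = nm n a

theorem nm_add (x y : F) :
    nm n (x + y) = nm n x + nm n y + (c[x] * y + x * c[y]) := by
  simp only [nm, cj2_add]; ring

theorem mul_cond (g h : Heis F n) : tr n (g.b + h.b + c[g.a] * h.a) = nm n (g.a + h.a) := by
  have h1 := g.cond
  have h2 := h.cond
  rw [nm_add, tr, cj2_add, cj2_add, cj2_mul, cj2_cj2]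
  rw [tr] at h1 h2
  linear_combination h1 + h2

theorem inv_cond (g : Heis F n) : tr n c[g.b] = nm n g.a := by
  rw [← g.cond, tr, tr, cj2_cj2, add_comm]

theorem zero_cond : tr n (0 : F) = nm n (0 : F) := by
  rw [tr_eq_zero_iff.2 cj2_zero, nm_eq_zero.2 rfl]

instance : Mul (Heis F n) :=
  ⟨fun g h => ⟨g.a + h.a, g.b + h.b + c[g.a] * h.a, mul_cond g h⟩⟩

instance : One (Heis F n) := ⟨⟨0, 0, zero_cond⟩⟩

instance : Inv (Heis F n) := ⟨fun g => ⟨g.a, c[g.b], inv_cond g⟩⟩

@[simp] theorem mul_a (g h : Heis F n) : (g * h).a = g.a + h.a := rfl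
theorem mul_b (g h : Heis F n) : (g * h).b = g.b + h.b + c[g.a] * h.a := rfl
@[simp] theorem one_a : (1 : Heis F n).a = 0 := rfl
@[simp] theorem one_b : (1 : Heis F n).b = 0 := rfl
@[simp] theorem inv_a (g : Heis F n) : g⁻¹.a = g.a := rfl
theorem inv_b (g : Heis F n) : g⁻¹.b = c[g.b] := rfl

instance : Group (Heis F n) :=
  Group.ofLeftAxioms
    (fun g h k => by
      ext
      · simp only [mul_a]; ring
      · simp only [mul_b, mul_a, cj2_add]; ring)
    (fun g => by
      ext
      · simp
      · simp [mul_b, cj2_zero])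
    (fun g => by
      ext
      · simp [add_self]
      · simp only [mul_b, inv_b, inv_a, one_b]
        have h := g.cond
        rw [tr, nm] at h
        linear_combination h + add_self (n := n) (g.a * c[g.a]))

instance : Finite (Heis F n) :=
  Finite.of_injective (fun g => (g.a, g.b)) fun g h e => by
    simp only [Prod.mk.injEq] at e
    exact Heis.ext e.1 e.2

theorem exists_lift (a : F) : ∃ g : Heis F n, g.a = a := by
  obtain ⟨b, hb⟩ := exists_tr_eq (nm_fixed a)
  exact ⟨⟨a, b, hb⟩, rfl⟩

theorem fixed_of_a_eq_zero {g : Heis F n} (hg : g.a = 0) : c[g.b] = g.b :=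
  tr_eq_zero_iff.1 (by rw [g.cond, hg, nm_eq_zero.2 rfl])

/-- The central element with second coordinate `z`. -/
def cen (z : Fix F n) : Heis F n :=
  ⟨0, z.1, by rw [tr_eq_zero_iff.2 z.2, nm_eq_zero.2 rfl]⟩

@[simp] theorem cen_a (z : Fix F n) : (cen z).a = 0 := rfl
@[simp] theorem cen_b (z : Fix F n) : (cen z).b = z.1 := rfl

/-- The elements with `a = 0` correspond to the fixed field. -/
def aZeroEquiv : {g : Heis F n // g.a = 0} ≃ Fix F n where
  toFun g := ⟨g.1.b, fixed_of_a_eq_zero g.2⟩
  invFun z := ⟨cen z, rfl⟩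
  left_inv g := Subtype.ext (Heis.ext g.2.symm rfl)
  right_inv z := rfl

theorem card_heis : Nat.card (Heis F n) = (2 ^ n) ^ 3 := by
  choose s hs using exists_lift (F := F) (n := n)
  have e : Heis F n ≃ F × {g : Heis F n // g.a = 0} :=
    { toFun := fun g => (g.a, ⟨(s g.a)⁻¹ * g, by simp [hs, add_self]⟩)
      invFun := fun p => s p.1 * p.2.1
      left_inv := fun g => mul_inv_cancel_left _ _
      right_inv := fun p => by
        have h1 : (s p.1 * p.2.1).a = p.1 := by simp [hs, p.2.2]
        refine Prod.ext h1 (Subtype.ext ?_)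
        show (s (s p.1 * p.2.1).a)⁻¹ * (s p.1 * p.2.1) = p.2.1
        rw [h1, inv_mul_cancel_left] }
  rw [Nat.card_congr e, Nat.card_prod, Nat.card_congr aZeroEquiv, card_fix, Nat.card_eq_fintype_card,
    hQ.card]
  ring

theorem isPGroup_heis : IsPGroup 2 (Heis F n) :=
  IsPGroup.of_card (n := n * 3) (by rw [card_heis, pow_mul])

theorem sq_eq (g : Heis F n) : g * g = cen ⟨nm n g.a, nm_fixed g.a⟩ := by
  ext
  · simp [add_self]
  · simp only [mul_b, cen_b, nm]
    linear_combination add_self (n := n) g.b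

theorem mul_self_eq_one_iff {g : Heis F n} : g * g = 1 ↔ g.a = 0 := by
  rw [sq_eq]
  constructor
  · intro h
    have := congrArg Heis.b h
    exact nm_eq_zero.1 this
  · intro h
    ext
    · rfl
    · simp [nm_eq_zero.2 h]

theorem commute_iff {g h : Heis F n} : g * h = h * g ↔ tr n (c[g.a] * h.a) = 0 := by
  rw [Heis.ext_iff, mul_b, mul_b, tr, cj2_mul, cj2_cj2]
  simp only [mul_a]
  constructor
  · rintro ⟨-, h2⟩
    linear_combination h2 + add_self (n := n) (g.a * c[h.a])
  · intro h0
    refine ⟨add_comm _ _, ?_⟩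
    linear_combination h0 - add_self (n := n) (g.a * c[h.a])

theorem mem_center_iff {g : Heis F n} : g ∈ Subgroup.center (Heis F n) ↔ g.a = 0 := by
  rw [Subgroup.mem_center_iff]
  constructor
  · intro hg
    by_contra h
    obtain ⟨x, hx⟩ := exists_not_fixed (F := F)
    obtain ⟨k, hk⟩ := exists_lift (F := F) (x / c[g.a])
    refine hx (tr_eq_zero_iff.1 ?_)
    have := commute_iff.1 (hg k).symm
    rwa [hk, mul_div_cancel₀ _ (cj2_eq_zero.not.2 h)] at this
  · intro hg k
    refine commute_iff.2 ?_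
    rw [hg, mul_zero]
    exact tr_eq_zero_iff.2 cj2_zero

theorem card_center : Nat.card (Subgroup.center (Heis F n)) = 2 ^ n := by
  rw [Nat.card_congr (Equiv.subtypeEquivRight fun g => mem_center_iff (g := g)),
    Nat.card_congr aZeroEquiv, card_fix]

theorem commutatorElement_eq (g h : Heis F n) :
    g * h * g⁻¹ * h⁻¹ = cen ⟨tr n (c[g.a] * h.a), tr_fixed _⟩ := by
  have key : g * h = cen ⟨tr n (c[g.a] * h.a), tr_fixed _⟩ * (h * g) := by
    ext
    · simp [add_comm]
    · simp only [mul_b, cen_b, cen_a, cj2_zero, zero_mul, add_zero]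
      rw [tr, cj2_mul, cj2_cj2]
      linear_combination - add_self (n := n) (g.a * c[h.a])
  rw [key]; group

theorem commutator_eq_center : commutator (Heis F n) = Subgroup.center (Heis F n) := by
  apply le_antisymm
  · rw [commutator_def, Subgroup.commutator_le]
    intro g _ h _
    rw [mem_center_iff, commutatorElement_def, commutatorElement_eq]
    rfl
  · intro z hz
    obtain ⟨b, hb⟩ := exists_tr_eq (fixed_of_a_eq_zero (mem_center_iff.1 hz))
    obtain ⟨g, hg⟩ := exists_lift (F := F) (1 : F)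
    obtain ⟨h, hh⟩ := exists_lift (F := F) b
    have : z = ⁅g, h⁆ := by
      rw [commutatorElement_def, commutatorElement_eq]
      refine Heis.ext (mem_center_iff.1 hz) ?_
      simp [hg, hh, hb]
    rw [this, commutator_def]
    exact Subgroup.commutator_mem_commutator (Subgroup.mem_top _) (Subgroup.mem_top _)

theorem closure_involutions :
    Subgroup.closure {x : Heis F n | orderOf x = 2} = Subgroup.center (Heis F n) := by
  apply le_antisymm
  · rw [Subgroup.closure_le]
    intro x hx
    rw [SetLike.mem_coe, mem_center_iff, ← mul_self_eq_one_iff, ← sq, ← (show orderOf x = 2 from hx)]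
    exact pow_orderOf_eq_one x
  · intro z hz
    rcases eq_or_ne z 1 with rfl | hne
    · exact one_mem _
    · refine Subgroup.subset_closure (orderOf_eq_prime ?_ hne)
      rw [sq, mul_self_eq_one_iff]
      exact mem_center_iff.1 hz

/-- The torus element multiplying the first coordinate by a fixed scalar: value on elements. -/
theorem torus_cond (m : Fix F n) (g : Heis F n) :
    tr n (m.1 * m.1 * g.b) = nm n (m.1 * g.a) := by
  have h := g.cond
  simp only [tr, nm, cj2_mul, m.2] at h ⊢
  linear_combination (m.1 * m.1) * h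

/-- The torus endomorphism for a fixed scalar. -/
def torusHom (m : Fix F n) : Heis F n →* Heis F n where
  toFun g := ⟨m.1 * g.a, m.1 * m.1 * g.b, torus_cond m g⟩
  map_one' := Heis.ext (mul_zero _) (mul_zero _)
  map_mul' g h := Heis.ext (mul_add _ _ _) (by
    simp only [mul_b, cj2_mul, m.2]; ring)

theorem torusHom_apply_a (m : Fix F n) (g : Heis F n) : (torusHom m g).a = m.1 * g.a := rfl

theorem torusHom_apply_b (m : Fix F n) (g : Heis F n) : (torusHom m g).b = m.1 * m.1 * g.b := rfl

/-- The subgroup of fixed units. -/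
def fixUnits (F : Type*) [Field F] (n : ℕ) : Subgroup Fˣ where
  carrier := {u | cj2 n (u : F) = u}
  mul_mem' {u v} hu hv := by
    show cj2 n ((u * v : Fˣ) : F) = _
    rw [Units.val_mul, cj2, mul_pow]
    exact congrArg₂ _ hu hv
  one_mem' := one_pow _
  inv_mem' {u} hu := by
    show cj2 n ((u⁻¹ : Fˣ) : F) = _
    rw [Units.val_inv_eq_inv_val, cj2, inv_pow]
    exact congrArg _ hu

/-- The torus automorphism. -/
noncomputable def torusAut : fixUnits F n →* MulAut (Heis F n) where
  toFun u :=
    MulEquiv.ofBijective (torusHom ⟨((u : Fˣ) : F), u.2⟩) ⟨fun g h e =>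
      Heis.ext (mul_left_cancel₀ (Units.ne_zero _) (congrArg Heis.a e))
        (mul_left_cancel₀ (mul_ne_zero (Units.ne_zero _) (Units.ne_zero _)) (congrArg Heis.b e)),
      fun g => ⟨torusHom ⟨(((u⁻¹ : fixUnits F n) : Fˣ) : F), (u⁻¹).2⟩ g, Heis.ext
        (by simp [torusHom_apply_a])
        (by simp only [torusHom_apply_b, InvMemClass.coe_inv, Units.val_inv_eq_inv_val]
            field_simp)⟩⟩
  map_one' := MulEquiv.ext fun g => Heis.ext (one_mul _) (by
    show ((1 : Fˣ) : F) * ((1 : Fˣ) : F) * g.b = g.b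
    rw [Units.val_one, one_mul, one_mul])
  map_mul' u v := MulEquiv.ext fun g => Heis.ext (mul_assoc _ _ _) (by
    show ((u : Fˣ) : F) * ((v : Fˣ) : F) * (((u : Fˣ) : F) * ((v : Fˣ) : F)) * g.b =
      ((u : Fˣ) : F) * ((u : Fˣ) : F) * (((v : Fˣ) : F) * ((v : Fˣ) : F) * g.b)
    ring)

theorem torusAut_a (u : fixUnits F n) (g : Heis F n) :
    (torusAut u g).a = ((u : Fˣ) : F) * g.a := rfl

theorem torusAut_b (u : fixUnits F n) (g : Heis F n) :
    (torusAut u g).b = ((u : Fˣ) : F) * ((u : Fˣ) : F) * g.b := rfl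

end Cfsg.Agent.H33.SylU
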