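import Mathlib
import Cfsg.Agent.H33.SylU.Model
import Cfsg.Agent.Unitary.Center
import Cfsg.Agent.Unitary.Order

/-!
# The model is a Sylow 2-subgroup of `SU₃(2ⁿ)` and of `PSU₃(2ⁿ)`
-/

set_option autoImplicit false
set_option linter.unusedSectionVars false

namespace Cfsg.Agent.H33.SylU

open Cfsg Cfsg.Agent.Unitary

variable {F : Type*} [Field F] [Fintype F] {n : ℕ} [hQ : QField F n]

include hQ

/-- The isotropic vector `(1, 1, 0)`. -/
def uVec (F : Type*) [Field F] : Fin 3 → F := ![1, 1, 0]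

/-- The anisotropic vector `(0, 0, 1)`. -/
def wVec (F : Type*) [Field F] : Fin 3 → F := ![0, 0, 1]

theorem herm_u_u : hermForm 3 F (2 ^ n) (uVec F) (uVec F) = 0 := by
  simp [hermForm, uVec, Fin.sum_univ_three, add_self]

theorem herm_w_w : hermForm 3 F (2 ^ n) (wVec F) (wVec F) = 1 := by
  simp [hermForm, wVec, Fin.sum_univ_three]

theorem herm_w_u : hermForm 3 F (2 ^ n) (wVec F) (uVec F) = 0 := by
  simp [hermForm, uVec, wVec, Fin.sum_univ_three]

theorem eSpec_heis (g : Heis F n) : ESpec (2 ^ n) (uVec F) (g.a • wVec F) g.b :=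
  ⟨herm_u_u, by rw [herm_smul_left, herm_w_u, mul_zero], by
    rw [herm_self_smul, herm_w_w, mul_one]
    have h := g.cond
    rw [tr, nm, cj2, cj2] at h
    linear_combination h + add_self (n := n) (g.a * g.a ^ (2 ^ n))⟩

theorem eSU_congr {u w w' : Fin 3 → F} {α β : F} (h : ESpec (2 ^ n) u w α)
    (h' : ESpec (2 ^ n) u w' β) (ew : w = w') (eα : α = β) : eSU hQ.card h = eSU hQ.card h' := by
  subst ew; subst eα; rfl

/-- The embedding of the model into `SU₃`. -/
noncomputable def toSU3 : Heis F n →* SU 3 F (2 ^ n) :=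
  MonoidHom.mk' (fun g => eSU hQ.card (eSpec_heis g)) fun g h => by
    rw [eSU_mul hQ.card (eSpec_heis g) (eSpec_heis h) (eSpec_add hQ.card (eSpec_heis g) (eSpec_heis h))]
    refine eSU_congr _ _ (add_smul _ _ _) ?_
    rw [herm_smul_left, herm_smul_right, herm_w_w, mul_one, mul_b, cj2]
    linear_combination add_self (n := n) (g.a ^ (2 ^ n) * h.a)

theorem ap_toSU3 (g : Heis F n) :
    ap (toSU3 g) ![1, 0, 0] = ![1 + g.b, g.b, g.a] := by
  show ap (eSU hQ.card (eSpec_heis g)) _ = _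
  rw [ap_eSU]
  funext i
  fin_cases i <;> simp [hermForm, uVec, wVec, Fin.sum_univ_three]

theorem toSU3_injective : Function.Injective (toSU3 (F := F) (n := n)) := by
  intro g h e
  have h1 := ap_toSU3 g
  rw [e, ap_toSU3] at h1
  exact Heis.ext (congrFun h1 2).symm (congrFun h1 1).symm

/-- The order of `SU₃` as a product of `q ^ 3` and an odd number. -/
theorem card_SU_three :
    ∃ m : ℕ, Odd m ∧ Nat.card (SU 3 F (2 ^ n)) = (2 ^ n) ^ 3 * m := by
  have h := card_GU_eq_mul_card_SU hQ.card (n := 3) (by norm_num)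
  rw [card_GU hQ.card, Finset.prod_range_succ, Finset.prod_range_succ, Finset.prod_range_one] at h
  have h0 : guFactor (2 ^ n) 0 = 2 ^ n + 1 := by simp [guFactor]
  have h1 : guFactor (2 ^ n) 1 = (2 ^ n) ^ 2 - 1 := by simp [guFactor]
  have h2 : guFactor (2 ^ n) 2 = (2 ^ n) ^ 3 + 1 := by simp [guFactor]
  rw [h0, h1, h2, show 3 * (3 - 1) / 2 = 3 from rfl] at h
  have hn := n_pos (F := F)
  have hev : Even (2 ^ n) := (Nat.even_pow).2 ⟨even_two, hn.ne'⟩
  refine ⟨((2 ^ n) ^ 2 - 1) * ((2 ^ n) ^ 3 + 1), ?_, ?_⟩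
  · refine Odd.mul ?_ ((Nat.even_pow.2 ⟨hev, by norm_num⟩).add_one)
    exact Nat.Even.sub_odd (Nat.one_le_pow _ _ (by positivity))
      (Nat.even_pow.2 ⟨hev, two_ne_zero⟩) odd_one
  · apply mul_left_cancel₀ (show (2 ^ n + 1 : ℕ) ≠ 0 by positivity)
    rw [← h]; ring

theorem factorization_SU_three :
    2 ^ (Nat.card (SU 3 F (2 ^ n))).factorization 2 = (2 ^ n) ^ 3 := by
  obtain ⟨m, hm, h⟩ := card_SU_three (F := F)
  rw [h, Nat.factorization_mul (by positivity) hm.pos.ne', Finsupp.add_apply, ← pow_mul,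
    Nat.factorization_pow_self Nat.prime_two,
    Nat.factorization_eq_zero_of_not_dvd hm.not_two_dvd_nat, add_zero]

/-- A Sylow subgroup of `SU₃(2ⁿ)` is isomorphic to the model. -/
theorem nonempty_equiv_SU (P : Sylow 2 (SU 3 F (2 ^ n))) :
    Nonempty (Heis F n ≃* (P : Subgroup (SU 3 F (2 ^ n)))) := by
  have hc : Nat.card (toSU3 (F := F) (n := n)).range =
      2 ^ (Nat.card (SU 3 F (2 ^ n))).factorization 2 := by
    rw [factorization_SU_three, ← Nat.card_congr (MonoidHom.ofInjective toSU3_injective).toEquiv,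
      card_heis]
  exact ⟨(MonoidHom.ofInjective toSU3_injective).trans ((Sylow.ofCard _ hc).equiv P)⟩

theorem odd_center : Odd (Nat.card (Subgroup.center (SU 3 F (2 ^ n)))) := by
  rw [card_center_SU hQ.card (by norm_num)]
  exact Odd.of_dvd_nat (by decide : Odd 3) (Nat.gcd_dvd_left _ _)

theorem center_inj (g : Heis F n)
    (hg : QuotientGroup.mk' (Subgroup.center (SU 3 F (2 ^ n))) (toSU3 g) = 1) : g = 1 := by
  rw [QuotientGroup.mk'_apply, QuotientGroup.eq_one_iff] at hg
  obtain ⟨k, hk⟩ := (IsPGroup.iff_orderOf.1 (isPGroup_heis (F := F))) g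
  have h2 : 2 ^ k ∣ Nat.card (Subgroup.center (SU 3 F (2 ^ n))) := by
    rw [← hk, ← orderOf_injective toSU3 toSU3_injective g]
    exact Subgroup.orderOf_dvd_natCard _ hg
  rcases Nat.eq_zero_or_pos k with rfl | hk0
  · rwa [pow_zero, orderOf_eq_one_iff] at hk
  · exact absurd ((dvd_pow_self 2 hk0.ne').trans h2) odd_center.not_two_dvd_nat

/-- A Sylow subgroup of `PSU₃(2ⁿ)` is isomorphic to the model. -/
theorem nonempty_equiv_PSU (P : Sylow 2 (PSU 3 F (2 ^ n))) :
    Nonempty (Heis F n ≃* (P : Subgroup (PSU 3 F (2 ^ n)))) := by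
  let f : Heis F n →* PSU 3 F (2 ^ n) :=
    (QuotientGroup.mk' (Subgroup.center (SU 3 F (2 ^ n)))).comp toSU3
  have hf : Function.Injective f := (injective_iff_map_eq_one f).2 center_inj
  have hfac : (Nat.card (PSU 3 F (2 ^ n))).factorization 2 =
      (Nat.card (SU 3 F (2 ^ n))).factorization 2 := by
    rw [Subgroup.card_eq_card_quotient_mul_card_subgroup (Subgroup.center (SU 3 F (2 ^ n))),
      Nat.factorization_mul Nat.card_pos.ne' Nat.card_pos.ne', Finsupp.add_apply,
      Nat.factorization_eq_zero_of_not_dvd odd_center.not_two_dvd_nat, add_zero]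
  have hc : Nat.card f.range = 2 ^ (Nat.card (PSU 3 F (2 ^ n))).factorization 2 := by
    rw [hfac, factorization_SU_three, ← Nat.card_congr (MonoidHom.ofInjective hf).toEquiv,
      card_heis]
  exact ⟨(MonoidHom.ofInjective hf).trans ((Sylow.ofCard _ hc).equiv P)⟩

theorem center_map {G : Type*} [Group G] (e : Heis F n ≃* G) :
    (Subgroup.center (Heis F n)).map e.toMonoidHom = Subgroup.center G := by
  ext x
  rw [Subgroup.mem_map]
  constructor
  · rintro ⟨y, hy, rfl⟩
    rw [Subgroup.mem_center_iff]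
    intro z
    obtain ⟨z, rfl⟩ := e.surjective z
    show e z * e y = e y * e z
    rw [← map_mul, ← map_mul, Subgroup.mem_center_iff.1 hy z]
  · intro hx
    refine ⟨e.symm x, Subgroup.mem_center_iff.2 fun z => e.injective ?_, e.apply_symm_apply x⟩
    rw [map_mul, map_mul, e.apply_symm_apply]
    exact Subgroup.mem_center_iff.1 hx _

end Cfsg.Agent.H33.SylU
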