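import Mathlib
import Cfsg.Agent.H33.SylU.Model

/-!
# Automorphisms of the model: semilinearity of the induced map on the first coordinate

For `α : MulAut (Heis F n)` the induced map on first coordinates is `a ↦ lam α * τ a` for a field
automorphism `τ`, and on the centre it is `z ↦ nm (lam α) * τ z`.
-/

set_option autoImplicit false
set_option linter.unusedSectionVars false

namespace Cfsg.Agent.H33.SylU

open Cfsg.Agent.Unitary

variable {F : Type*} [Field F] [Fintype F] {n : ℕ} [hQ : QField F n]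

include hQ

local notation "c[" x "]" => cj2 n x

/-- A chosen lift of a first coordinate. -/
noncomputable def lift (a : F) : Heis F n := Classical.choose (exists_lift a)

theorem lift_a (a : F) : (lift a).a = a := Classical.choose_spec (exists_lift a)

theorem map_a_zero (α : MulAut (Heis F n)) {g : Heis F n} (hg : g.a = 0) : (α g).a = 0 := by
  rw [← mul_self_eq_one_iff] at hg ⊢
  rw [← map_mul, hg, map_one]

/-- The induced map on first coordinates. -/
noncomputable def amap (α : MulAut (Heis F n)) (a : F) : F := (α (lift a)).a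

theorem amap_spec (α : MulAut (Heis F n)) (g : Heis F n) : (α g).a = amap α g.a := by
  have h1 : ((lift g.a)⁻¹ * g).a = 0 := by simp [lift_a, add_self]
  have h2 := map_a_zero α h1
  rw [map_mul, map_inv, mul_a, inv_a] at h2
  rw [amap]
  linear_combination h2 - add_self (n := n) (α (lift g.a)).a

theorem amap_add (α : MulAut (Heis F n)) (a b : F) : amap α (a + b) = amap α a + amap α b := by
  have h := amap_spec α (lift a * lift b)
  rw [map_mul, mul_a, mul_a, lift_a, lift_a, amap_spec, amap_spec, lift_a, lift_a] at h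
  exact h.symm

theorem amap_mul (α β : MulAut (Heis F n)) (a : F) : amap (α * β) a = amap α (amap β a) := by
  conv_lhs => rw [amap, MulAut.mul_apply, amap_spec, amap_spec, lift_a]

theorem amap_one (a : F) : amap (1 : MulAut (Heis F n)) a = a := lift_a a

theorem amap_inv_amap (α : MulAut (Heis F n)) (a : F) : amap α⁻¹ (amap α a) = a := by
  rw [← amap_mul, inv_mul_cancel, amap_one]

theorem amap_injective (α : MulAut (Heis F n)) : Function.Injective (amap α) :=
  Function.LeftInverse.injective (amap_inv_amap α)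

theorem amap_surjective (α : MulAut (Heis F n)) : Function.Surjective (amap α) := fun a =>
  ⟨amap α⁻¹ a, by rw [← amap_mul, mul_inv_cancel, amap_one]⟩

theorem amap_zero (α : MulAut (Heis F n)) : amap α 0 = 0 := by
  rw [← one_a (F := F) (n := n), ← amap_spec, map_one]

/-- The induced map on the centre. -/
def bmap (α : MulAut (Heis F n)) (z : Fix F n) : F := (α (cen z)).b

theorem map_cen (α : MulAut (Heis F n)) (z : Fix F n) :
    (α (cen z)).a = 0 ∧ (α (cen z)).b = bmap α z := ⟨map_a_zero α rfl, rfl⟩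

theorem bmap_nm (α : MulAut (Heis F n)) (a : F) :
    bmap α ⟨nm n a, nm_fixed a⟩ = nm n (amap α a) := by
  have h : cen ⟨nm n a, nm_fixed a⟩ = lift a * lift (F := F) a := by
    rw [sq_eq]
    exact congrArg cen (Subtype.ext (by rw [lift_a]))
  rw [bmap, h, map_mul, sq_eq, cen_b]
  rfl

theorem bmap_congr (α : MulAut (Heis F n)) {z w : Fix F n} (h : z.1 = w.1) :
    bmap α z = bmap α w := by rw [Subtype.ext h]

theorem bmap_add (α : MulAut (Heis F n)) (z w : Fix F n) (h : c[z.1 + w.1] = z.1 + w.1) :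
    bmap α ⟨z.1 + w.1, h⟩ = bmap α z + bmap α w := by
  have e : cen ⟨z.1 + w.1, h⟩ = cen z * cen w := by
    ext
    · simp
    · simp [mul_b, cj2_zero]
  rw [bmap, e, map_mul, mul_b, map_a_zero α (cen_a z), cj2_zero, zero_mul, add_zero]
  rfl

/-- The fundamental relation between the two induced maps. -/
theorem tr_amap (α : MulAut (Heis F n)) (a b : F) :
    tr n (c[amap α a] * amap α b) = bmap α ⟨tr n (c[a] * b), tr_fixed _⟩ := by
  have hexp : ∀ x y : F, tr n (c[x] * y) = nm n x + nm n y + nm n (x + y) := fun x y => by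
    rw [nm_add, tr, cj2_mul, cj2_cj2]
    linear_combination - add_self (n := n) (nm n x) - add_self (n := n) (nm n y)
  have hf : ∀ x y : F, c[nm n x + nm n y] = nm n x + nm n y := fun x y => by
    rw [cj2_add, nm_fixed, nm_fixed]
  have hf3 : c[nm n a + nm n b + nm n (a + b)] = nm n a + nm n b + nm n (a + b) := by
    rw [cj2_add, hf, nm_fixed]
  rw [hexp, ← amap_add, ← bmap_nm, ← bmap_nm, ← bmap_nm,
    ← bmap_add α ⟨nm n a, nm_fixed a⟩ ⟨nm n b, nm_fixed b⟩ (hf a b),
    ← bmap_add α ⟨nm n a + nm n b, hf a b⟩ ⟨nm n (a + b), nm_fixed _⟩ hf3]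
  exact bmap_congr α (hexp a b).symm

theorem tr_fix_mul {k : F} (hk : c[k] = k) (x : F) : tr n (k * x) = k * tr n x := by
  rw [tr, tr, cj2_mul, hk]; ring

theorem eq_of_tr_eq {x y : F} (h : ∀ u : F, tr n (c[u] * x) = tr n (c[u] * y)) : x = y := by
  by_contra hne
  obtain ⟨z, hz⟩ := exists_not_fixed (F := F)
  have h0 : x + y ≠ 0 := fun h0 => hne (by linear_combination h0 - add_self (n := n) y)
  refine hz (tr_eq_zero_iff.1 ?_)
  have h1 := h c[z / (x + y)]
  rw [cj2_cj2] at h1
  calc tr n z = tr n (z / (x + y) * x + z / (x + y) * y) := by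
        rw [← mul_add, div_mul_cancel₀ z h0]
    _ = tr n (z / (x + y) * x) + tr n (z / (x + y) * y) := by
        rw [tr, tr, tr, cj2_add]; ring
    _ = 0 := by rw [h1, add_self]

/-- A map normalised at `1` is multiplicative. -/
theorem amap_multiplicative {α : MulAut (Heis F n)} (h1 : amap α 1 = 1) (x y : F) :
    amap α (x * y) = amap α x * amap α y := by
  have hB1 : ∀ z : Fix F n, z.1 = 1 → bmap α z = 1 := fun z hz => by
    rw [bmap_congr α (w := ⟨nm n (1 : F), nm_fixed 1⟩) (by rw [hz]; simp [nm]), bmap_nm, h1]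
    simp [nm]
  have hT : ∀ u : F, tr n (amap α u) = bmap α ⟨tr n u, tr_fixed u⟩ := fun u => by
    have h := tr_amap α 1 u
    rw [h1, cj2_one, one_mul] at h
    rw [h]
    exact bmap_congr α (by simp)
  have hfix : ∀ k : F, c[k] = k → c[amap α k] = amap α k := fun k hk => by
    refine tr_eq_zero_iff.1 ?_
    rw [hT, bmap_congr α (w := ⟨(0 : F), cj2_zero⟩) (tr_eq_zero_iff.2 hk)]
    rw [bmap, show (cen ⟨(0 : F), cj2_zero⟩ : Heis F n) = 1 from rfl, map_one, one_b]
  have hk : ∀ (k : F) (hk : c[k] = k) (t : Fix F n),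
      amap α k * bmap α t = bmap α ⟨k * t.1, by rw [cj2_mul, hk, t.2]⟩ := by
    intro k hk t
    obtain ⟨u, hu⟩ := exists_tr_eq t.2
    have h := tr_amap α k u
    rw [hfix k hk, tr_fix_mul (hfix k hk), hT] at h
    rw [bmap_congr α (w := ⟨tr n u, tr_fixed u⟩) hu.symm, h]
    exact bmap_congr α (show tr n (c[k] * u) = k * t.1 by rw [hk, tr_fix_mul hk, hu])
  have hkb : ∀ (k : F) (hk' : c[k] = k), amap α k = bmap α ⟨k, hk'⟩ := fun k hk' => by
    have h := hk k hk' ⟨1, cj2_one⟩
    rw [hB1 _ rfl, mul_one] at h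
    rw [h]
    exact bmap_congr α (mul_one k)
  have hsemi : ∀ (k : F), c[k] = k → ∀ v : F, amap α (k * v) = amap α k * amap α v := by
    intro k hk' v
    refine eq_of_tr_eq fun u => ?_
    obtain ⟨w, rfl⟩ := amap_surjective α u
    rw [tr_amap, mul_left_comm c[amap α w], tr_fix_mul (hfix k hk'), tr_amap, hk k hk']
    exact bmap_congr α (show tr n (c[w] * (k * v)) = k * tr n (c[w] * v) by
      rw [mul_left_comm, tr_fix_mul hk'])
  have hnm : ∀ v : F, amap α (nm n v) = nm n (amap α v) := fun v => by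
    rw [hkb _ (nm_fixed v), bmap_nm]
  have htr : ∀ v : F, amap α (tr n v) = tr n (amap α v) := fun v => by
    rw [hkb _ (tr_fixed v), hT]
  have hsq : ∀ v : F, amap α (v * v) = amap α v * amap α v := fun v => by
    have e : v * v = tr n v * v + nm n v := by
      rw [tr, nm]; linear_combination - add_self (n := n) (c[v] * v)
    rw [e, amap_add, hsemi _ (tr_fixed v), hnm, htr, tr, nm]
    linear_combination add_self (n := n) (c[amap α v] * amap α v)
  obtain ⟨z, hz⟩ := exists_not_fixed (F := F)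
  have hbij : Function.Bijective (fun p : Fix F n × Fix F n => p.1.1 + p.2.1 * z) := by
    refine (Nat.bijective_iff_injective_and_card _).2 ⟨?_, ?_⟩
    · rintro ⟨⟨a, ha⟩, ⟨b, hb⟩⟩ ⟨⟨a', ha'⟩, ⟨b', hb'⟩⟩ h
      simp only at h
      have hbb : b = b' := by
        by_contra hne
        refine hz ?_
        have hd : b - b' ≠ 0 := sub_ne_zero.2 hne
        have hzeq : z = (a' - a) / (b - b') := by
          rw [eq_div_iff hd]; linear_combination h
        have hc : ∀ w : F, -w = w := fun w => by linear_combination - add_self (n := n) w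
        rw [hzeq, sub_eq_add_neg, sub_eq_add_neg b, hc, hc, cj2, div_pow]
        exact congrArg₂ (· / ·) (by rw [← cj2, cj2_add, ha, ha'])
          (by rw [← cj2, cj2_add, hb, hb'])
      subst hbb
      rw [add_left_inj] at h
      subst h
      rfl
    · rw [Nat.card_prod, card_fix, Nat.card_eq_fintype_card, hQ.card, sq]
  have hexp : ∀ a b v : F, c[a] = a → c[b] = b →
      amap α ((a + b * z) * v) = amap α a * amap α v + amap α b * amap α (z * v) :=
    fun a b v ha hb => by rw [add_mul, amap_add, mul_assoc, hsemi a ha, hsemi b hb]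
  obtain ⟨⟨⟨a, ha⟩, ⟨b, hb⟩⟩, rfl⟩ := hbij.2 x
  obtain ⟨⟨⟨a', ha'⟩, ⟨b', hb'⟩⟩, rfl⟩ := hbij.2 y
  show amap α ((a + b * z) * (a' + b' * z)) = amap α (a + b * z) * amap α (a' + b' * z)
  rw [hexp a b _ ha hb, mul_comm z (a' + b' * z), hexp a' b' z ha' hb', hsq, amap_add, amap_add,
    hsemi b' hb', hsemi b hb]
  ring

theorem exists_scale {l : F} (hl : l ≠ 0) :
    ∃ α : MulAut (Heis F n), ∀ a, amap α a = l * a := by
  have hcond : ∀ (m : F) (g : Heis F n), tr n (nm n m * g.b) = nm n (m * g.a) := fun m g => by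
    rw [tr_fix_mul (nm_fixed m), g.cond, nm, nm, nm, cj2_mul]; ring
  let f : F → Heis F n → Heis F n := fun m g => ⟨m * g.a, nm n m * g.b, hcond m g⟩
  have hinv : ∀ m m' : F, m * m' = 1 → ∀ g, f m (f m' g) = g := fun m m' h g =>
    Heis.ext (show m * (m' * g.a) = g.a by rw [← mul_assoc, h, one_mul])
      (show nm n m * (nm n m' * g.b) = g.b by
        rw [← mul_assoc, show nm n m * nm n m' = nm n (m * m') by
          rw [nm, nm, nm, cj2_mul]; ring, h, nm, cj2_one, one_mul, one_mul])
  refine ⟨MulEquiv.mk' ⟨f l, f l⁻¹, hinv _ _ (inv_mul_cancel₀ hl), hinv _ _ (mul_inv_cancel₀ hl)⟩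
    (fun g h => Heis.ext (mul_add _ _ _) ?_), fun a => ?_⟩
  · show nm n l * (g * h).b = nm n l * g.b + nm n l * h.b + c[l * g.a] * (l * h.a)
    rw [mul_b, nm, cj2_mul]; ring
  · show l * (lift a).a = l * a
    rw [lift_a]

/-- The structure of an automorphism: first coordinates transform semilinearly. -/
theorem exists_param (α : MulAut (Heis F n)) :
    ∃ (τ : F ≃+* F), (∀ a, amap α a = amap α 1 * τ a) := by
  have hl : amap α 1 ≠ 0 := fun h =>
    one_ne_zero (amap_injective α (h.trans (amap_zero α).symm))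
  obtain ⟨δ, hδ⟩ := exists_scale (F := F) (inv_ne_zero hl)
  have h1 : amap (δ * α) 1 = 1 := by rw [amap_mul, hδ, inv_mul_cancel₀ hl]
  refine ⟨{ Equiv.ofBijective (amap (δ * α)) ⟨amap_injective _, amap_surjective _⟩ with
    map_mul' := amap_multiplicative h1, map_add' := amap_add _ }, fun a => ?_⟩
  show amap α a = amap α 1 * amap (δ * α) a
  rw [amap_mul, hδ, mul_inv_cancel_left₀ hl]

theorem ringEquiv_cj2 (τ : F ≃+* F) (x : F) : τ c[x] = c[τ x] := map_pow τ x _

theorem ringEquiv_nm (τ : F ≃+* F) (x : F) : τ (nm n x) = nm n (τ x) := by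
  rw [nm, nm, map_mul, ringEquiv_cj2]

/-- The action on the centre. -/
theorem bmap_eq {α : MulAut (Heis F n)} {τ : F ≃+* F} (h : ∀ a, amap α a = amap α 1 * τ a)
    (z : Fix F n) : bmap α z = nm n (amap α 1) * τ z.1 := by
  obtain ⟨a, ha⟩ := exists_nm_eq z.2
  rw [bmap_congr α (w := ⟨nm n a, nm_fixed a⟩) ha.symm, bmap_nm, h, ← ha, ringEquiv_nm,
    nm, nm, nm, cj2_mul]
  ring

/-- The field automorphism of `F` is determined. -/
theorem param_unique {α : MulAut (Heis F n)} {τ τ' : F ≃+* F}
    (h : ∀ a, amap α a = amap α 1 * τ a) (h' : ∀ a, amap α a = amap α 1 * τ' a) : τ = τ' := by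
  have hl : amap α 1 ≠ 0 := fun h0 =>
    one_ne_zero (amap_injective α (h0.trans (amap_zero α).symm))
  ext a
  exact mul_left_cancel₀ hl ((h a).symm.trans (h' a))

end Cfsg.Agent.H33.SylU
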