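import Mathlib
import Cfsg.Prelude.Def_Solvable
import Cfsg.Prelude.Def_Transfer
import Cfsg.Agent.H33.SylU.Aut

/-!
# The order and 2-core of the automorphism group of the model
-/

set_option autoImplicit false
set_option linter.unusedSectionVars false

namespace Cfsg.Agent.H33.SylU

open Cfsg.Agent.Unitary

variable {F : Type*} [Field F] [Fintype F] {n : ℕ} [hQ : QField F n]

include hQ

local notation "c[" x "]" => cj2 n x

instance : Finite (F ≃+* F) :=
  Finite.of_injective (fun g : F ≃+* F => (g : F → F)) DFunLike.coe_injective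

theorem ringEquiv_card : Nat.card (F ≃+* F) = 2 * n ∧ IsCyclic (F ≃+* F) := by
  have : CharP F 2 := charTwo
  letI := ZMod.algebra F 2
  let e : (F ≃ₐ[ZMod 2] F) ≃* (F ≃+* F) :=
    { toFun := fun f => f.toRingEquiv
      invFun := fun g => AlgEquiv.ofRingEquiv (f := g) fun r =>
        RingHom.congr_fun (Subsingleton.elim (g.toRingHom.comp (algebraMap (ZMod 2) F))
          (algebraMap (ZMod 2) F)) r
      left_inv := fun f => AlgEquiv.ext fun x => rfl
      right_inv := fun g => RingEquiv.ext fun x => rfl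
      map_mul' := fun f g => RingEquiv.ext fun x => rfl }
  refine ⟨?_, isCyclic_of_surjective e e.surjective⟩
  rw [← Nat.card_congr e.toEquiv, IsGalois.card_aut_eq_finrank]
  have h := Module.card_eq_pow_finrank (K := ZMod 2) (V := F)
  rw [ZMod.card, hQ.card, ← pow_mul] at h
  have := Nat.pow_right_injective le_rfl h
  omega

/-- The involutory field automorphism. -/
noncomputable def frobQ : F ≃+* F := frob hQ.card

theorem frobQ_apply (x : F) : frobQ (n := n) x = c[x] := rfl

/-- A field automorphism with square `1` is the identity or `x ↦ x ^ q`. -/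
theorem ringEquiv_sq {τ : F ≃+* F} (h : τ * τ = 1) : τ = 1 ∨ τ = frobQ := by
  classical
  have := (ringEquiv_card (F := F)).2
  have : Fintype (F ≃+* F) := Fintype.ofFinite _
  have h2 := IsCyclic.card_pow_eq_one_le (α := F ≃+* F) (n := 2) two_pos
  by_contra hne
  push Not at hne
  have hf : (frobQ (F := F) (n := n)) ≠ 1 := by
    obtain ⟨x, hx⟩ := exists_not_fixed (F := F)
    exact fun he => hx (by rw [← frobQ_apply, he]; rfl)
  have hsub : ({1, frobQ, τ} : Finset (F ≃+* F)) ⊆ Finset.univ.filter (fun g => g ^ 2 = 1) := by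
    intro g hg
    simp only [Finset.mem_insert, Finset.mem_singleton] at hg
    refine Finset.mem_filter.2 ⟨Finset.mem_univ _, ?_⟩
    rcases hg with rfl | rfl | rfl
    · exact one_pow 2
    · rw [sq]; exact RingEquiv.ext fun x => cj2_cj2 x
    · rw [sq]; exact h
  have h3 := Finset.card_le_card hsub
  rw [Finset.card_insert_of_notMem (by simp [hf.symm, hne.1.symm]),
    Finset.card_pair hne.2.symm] at h3
  omega

theorem lam_ne_zero (α : MulAut (Heis F n)) : amap α 1 ≠ 0 := fun h =>
  one_ne_zero (amap_injective α (h.trans (amap_zero α).symm))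

/-- The chosen field automorphism of an automorphism. -/
noncomputable def tau (α : MulAut (Heis F n)) : F ≃+* F := Classical.choose (exists_param α)

theorem tau_spec (α : MulAut (Heis F n)) (a : F) : amap α a = amap α 1 * tau α a :=
  Classical.choose_spec (exists_param α) a

theorem tau_mul (α β : MulAut (Heis F n)) : tau (α * β) = tau α * tau β :=
  param_unique (tau_spec (α * β)) fun a => by
    show amap (α * β) a = amap (α * β) 1 * tau α (tau β a)
    rw [amap_mul, amap_mul, tau_spec β a, tau_spec α (amap β 1 * tau β a), map_mul,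
      tau_spec α (amap β 1), mul_assoc]

theorem lam_mul (α β : MulAut (Heis F n)) :
    amap (α * β) 1 = amap α 1 * tau α (amap β 1) := by rw [amap_mul, tau_spec α]

theorem tau_one : tau (1 : MulAut (Heis F n)) = 1 :=
  param_unique (tau_spec 1) fun a => by
    show amap 1 a = amap 1 1 * a
    rw [amap_one, amap_one, one_mul]

/-- The pair of parameters. -/
noncomputable def param (α : MulAut (Heis F n)) : Fˣ × (F ≃+* F) :=
  (Units.mk0 _ (lam_ne_zero α), tau α)

/-- The action of an automorphism on first coordinates, as a permutation of `F`. -/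
noncomputable def toPerm : MulAut (Heis F n) →* Equiv.Perm F where
  toFun α := Equiv.ofBijective (amap α) ⟨amap_injective α, amap_surjective α⟩
  map_one' := Equiv.ext amap_one
  map_mul' α β := Equiv.ext (amap_mul α β)

theorem mem_ker_toPerm {α : MulAut (Heis F n)} :
    α ∈ (toPerm : MulAut (Heis F n) →* Equiv.Perm F).ker ↔ ∀ a, amap α a = a := by
  rw [MonoidHom.mem_ker, Equiv.ext_iff]
  rfl

theorem exists_semilinear (l : Fˣ) (τ : F ≃+* F) :
    ∃ α : MulAut (Heis F n), ∀ a, amap α a = (l : F) * τ a := by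
  obtain ⟨δ, hδ⟩ := exists_scale (F := F) (Units.ne_zero l)
  have hcond : ∀ (t : F ≃+* F) (g : Heis F n), tr n (t g.b) = nm n (t g.a) := fun t g => by
    rw [← ringEquiv_nm, ← g.cond, tr, tr, map_add, ringEquiv_cj2]
  let φ : MulAut (Heis F n) :=
    MulEquiv.mk' ⟨fun g => ⟨τ g.a, τ g.b, hcond τ g⟩, fun g => ⟨τ.symm g.a, τ.symm g.b, hcond τ.symm g⟩,
      fun g => Heis.ext (τ.symm_apply_apply _) (τ.symm_apply_apply _),
      fun g => Heis.ext (τ.apply_symm_apply _) (τ.apply_symm_apply _)⟩
    (fun g h => Heis.ext (map_add τ _ _) (by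
      show τ (g * h).b = τ g.b + τ h.b + c[τ g.a] * τ h.a
      rw [mul_b, map_add, map_add, map_mul, ringEquiv_cj2]))
  refine ⟨δ * φ, fun a => ?_⟩
  rw [amap_mul, hδ]
  congr 1
  show τ (lift a).a = τ a
  rw [lift_a]

theorem card_range_toPerm :
    Nat.card (toPerm : MulAut (Heis F n) →* Equiv.Perm F).range = ((2 ^ n) ^ 2 - 1) * (2 * n) := by
  rw [← (ringEquiv_card (F := F)).1, ← hQ.card, ← Nat.card_eq_fintype_card (α := F),
    ← Nat.card_units F, ← Nat.card_prod]
  let f : Fˣ × (F ≃+* F) → (toPerm : MulAut (Heis F n) →* Equiv.Perm F).range :=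
    fun p => ⟨toPerm (Classical.choose (exists_semilinear (n := n) p.1 p.2)), ⟨_, rfl⟩⟩
  refine (Nat.card_eq_of_bijective f ⟨?_, ?_⟩).symm
  · rintro ⟨l, t⟩ ⟨l', t'⟩ h
    have h' : ∀ a, (l : F) * t a = (l' : F) * t' a := fun a => by
      have e := congrArg (fun x : (toPerm : MulAut (Heis F n) →* Equiv.Perm F).range => x.1 a) h
      change amap _ a = amap _ a at e
      rw [Classical.choose_spec (exists_semilinear (n := n) l t),
        Classical.choose_spec (exists_semilinear (n := n) l' t')] at e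
      exact e
    have hl : l = l' := Units.ext (by simpa using h' 1)
    subst hl
    exact Prod.ext rfl (RingEquiv.ext fun a => mul_left_cancel₀ (Units.ne_zero l) (h' a))
  · rintro ⟨_, α, rfl⟩
    refine ⟨param α, Subtype.ext (Equiv.ext fun a => ?_)⟩
    show amap _ a = amap α a
    rw [Classical.choose_spec (exists_semilinear (n := n) (param α).1 (param α).2), tau_spec α a]
    rfl

/-- Elements of the kernel fix the centre. -/
theorem ker_fix_center {α : MulAut (Heis F n)} (hα : ∀ a, amap α a = a) {g : Heis F n}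
    (hg : g.a = 0) : α g = g := by
  refine Heis.ext ((map_a_zero α hg).trans hg.symm) ?_
  have hg' : g = cen ⟨g.b, fixed_of_a_eq_zero hg⟩ := Heis.ext hg rfl
  obtain ⟨a, ha⟩ := exists_nm_eq (fixed_of_a_eq_zero hg)
  conv_lhs => rw [hg']
  show bmap α ⟨g.b, _⟩ = g.b
  rw [bmap_congr α (w := ⟨nm n a, nm_fixed a⟩) ha.symm, bmap_nm, hα, ha]

theorem ker_fixed_diff {α : MulAut (Heis F n)} (hα : ∀ a, amap α a = a) (g : Heis F n) :
    c[(α g).b + g.b] = (α g).b + g.b := by
  refine tr_eq_zero_iff.1 ?_
  have h1 := (α g).cond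
  rw [amap_spec, hα] at h1
  rw [tr] at h1
  have h2 := g.cond
  rw [tr] at h2
  rw [tr, cj2_add]
  linear_combination h1 + h2 + add_self (n := n) (nm n g.a)

theorem ker_diff_congr {α : MulAut (Heis F n)} (hα : ∀ a, amap α a = a) {g h : Heis F n}
    (hgh : g.a = h.a) : (α g).b + g.b = (α h).b + h.b := by
  have hz : (h⁻¹ * g).a = 0 := by simp [hgh, add_self]
  have e := ker_fix_center hα hz
  rw [map_mul, map_inv, inv_mul_eq_iff_eq_mul] at e
  have e' : g = h * (h⁻¹ * g) := (mul_inv_cancel_left h g).symm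
  have h1 := congrArg Heis.b e
  have h2 := congrArg Heis.b e'
  rw [mul_b (α h) (h⁻¹ * g), hz, mul_zero, add_zero] at h1
  rw [mul_b h (h⁻¹ * g), hz, mul_zero, add_zero] at h2
  linear_combination h1 + h2 + add_self (n := n) (h⁻¹ * g).b

/-- The fixed field as an additive subgroup. -/
def fixAdd : AddSubgroup F where
  carrier := {x | c[x] = x}
  add_mem' {x y} hx hy := by
    show c[x + y] = x + y
    rw [cj2_add, hx, hy]
  zero_mem' := cj2_zero
  neg_mem' {x} hx := by
    show c[-x] = -x
    rwa [show -x = x by linear_combination - add_self (n := n) x]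

theorem card_addHom : Nat.card (F →+ fixAdd (F := F) (n := n)) = 2 ^ (2 * n ^ 2) := by
  have : CharP F 2 := charTwo
  letI := ZMod.algebra F 2
  let K : Submodule (ZMod 2) F := AddSubgroup.toZModSubmodule 2 fixAdd
  let e : (F →+ fixAdd (F := F) (n := n)) ≃ (F →ₗ[ZMod 2] K) :=
    { toFun := fun f =>
        AddMonoidHom.toZModLinearMap 2
          (AddMonoidHom.mk' (fun x => (⟨(f x).1, (f x).2⟩ : K)) fun x y => Subtype.ext (by simp))
      invFun := fun f => AddMonoidHom.mk' (fun x => ⟨(f x).1, (f x).2⟩) fun x y => Subtype.ext (by simp)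
      left_inv := fun f => rfl
      right_inv := fun f => rfl }
  have hK : Nat.card K = 2 ^ n := by
    rw [← card_fix (F := F)]
    exact Nat.card_congr (Equiv.refl _)
  have hFr : Module.finrank (ZMod 2) F = 2 * n := by
    have h := Module.natCard_eq_pow_finrank (K := ZMod 2) (V := F)
    rw [Nat.card_zmod, Nat.card_eq_fintype_card, hQ.card, ← pow_mul] at h
    have := Nat.pow_right_injective le_rfl h
    omega
  have hKr : Module.finrank (ZMod 2) K = n := by
    have h := Module.natCard_eq_pow_finrank (K := ZMod 2) (V := K)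
    rw [Nat.card_zmod, hK] at h
    exact (Nat.pow_right_injective le_rfl h).symm
  rw [Nat.card_congr e, Module.natCard_eq_pow_finrank (K := ZMod 2), Nat.card_zmod,
    Module.finrank_linearMap, hFr, hKr, sq, mul_assoc]

/-- The difference map of a kernel element. -/
noncomputable def diffHom {α : MulAut (Heis F n)} (hα : ∀ a, amap α a = a) :
    F →+ fixAdd (F := F) (n := n) :=
  AddMonoidHom.mk' (fun a => ⟨(α (lift a)).b + (lift (F := F) a).b, ker_fixed_diff hα _⟩) fun a a' =>
    Subtype.ext (by
      show (α (lift (a + a'))).b + (lift (F := F) (a + a')).b =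
        ((α (lift a)).b + (lift (F := F) a).b) + ((α (lift a')).b + (lift (F := F) a').b)
      rw [ker_diff_congr hα (g := lift (a + a')) (h := lift a * lift a') (by simp [lift_a]),
        map_mul, mul_b, mul_b, amap_spec, amap_spec, hα, hα]
      linear_combination add_self (n := n) (c[(lift a).a] * (lift (F := F) a').a))

theorem diffHom_apply {α : MulAut (Heis F n)} (hα : ∀ a, amap α a = a) (g : Heis F n) :
    (α g).b = g.b + (diffHom hα g.a).1 := by
  show (α g).b = g.b + ((α (lift g.a)).b + (lift (F := F) g.a).b)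
  rw [← ker_diff_congr hα (g := g) (h := lift g.a) (lift_a _).symm]
  linear_combination - add_self (n := n) g.b

/-- The automorphism attached to a difference map. -/
def shiftAut (δ : F →+ fixAdd (F := F) (n := n)) : MulAut (Heis F n) :=
  let f : Heis F n → Heis F n := fun g => ⟨g.a, g.b + (δ g.a).1, by
    have h := g.cond
    rw [tr] at h ⊢
    rw [cj2_add, (δ g.a).2]
    linear_combination h + add_self (n := n) (δ g.a).1⟩
  have hf : ∀ g, f (f g) = g := fun g => Heis.ext rfl (by
    show g.b + (δ g.a).1 + (δ g.a).1 = g.b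
    linear_combination add_self (n := n) (δ g.a).1)
  MulEquiv.mk' ⟨f, f, hf, hf⟩ fun g h => Heis.ext rfl (by
    show (g * h).b + (δ (g * h).a).1 = (g.b + (δ g.a).1) + (h.b + (δ h.a).1) + c[g.a] * h.a
    rw [mul_b, mul_a, map_add, AddSubgroup.coe_add]
    ring)

theorem amap_shiftAut (δ : F →+ fixAdd (F := F) (n := n)) (a : F) : amap (shiftAut δ) a = a := lift_a a

/-- The kernel of the action on first coordinates. -/
noncomputable def kerEquiv :
    (toPerm : MulAut (Heis F n) →* Equiv.Perm F).ker ≃ (F →+ fixAdd (F := F) (n := n)) where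
  toFun α := diffHom (mem_ker_toPerm.1 α.2)
  invFun δ := ⟨shiftAut δ, mem_ker_toPerm.2 (amap_shiftAut δ)⟩
  left_inv α := Subtype.ext (MulEquiv.ext fun g =>
    Heis.ext ((amap_spec α.1 g).trans (mem_ker_toPerm.1 α.2 g.a)).symm
      (diffHom_apply (mem_ker_toPerm.1 α.2) g).symm)
  right_inv δ := by
    ext a
    show (shiftAut δ (lift a)).b + (lift (F := F) a).b = (δ a).1
    show (lift (F := F) a).b + (δ (lift (F := F) (n := n) a).a).1 + (lift (F := F) a).b = (δ a).1
    rw [lift_a]
    linear_combination add_self (n := n) (lift (F := F) a).b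

theorem card_ker_toPerm :
    Nat.card (toPerm : MulAut (Heis F n) →* Equiv.Perm F).ker = 2 ^ (2 * n ^ 2) := by
  rw [Nat.card_congr kerEquiv, card_addHom]

theorem card_mulAut :
    Nat.card (MulAut (Heis F n)) = 2 ^ (2 * n ^ 2) * (2 * n * ((2 ^ n) ^ 2 - 1)) := by
  rw [← Subgroup.card_mul_index (toPerm : MulAut (Heis F n) →* Equiv.Perm F).ker, Subgroup.index_ker,
    card_ker_toPerm, card_range_toPerm, mul_comm (((2 ^ n) ^ 2 - 1))]

theorem ker_elementary :
    Cfsg.IsElementaryAbelian 2 (toPerm : MulAut (Heis F n) →* Equiv.Perm F).ker := by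
  have key : ∀ {α β : MulAut (Heis F n)}, (∀ a, amap α a = a) → (∀ a, amap β a = a) → ∀ g,
      (α (β g)).a = g.a ∧ ∃ d e : F, (α (β g)).b = g.b + e + d ∧ (β (α g)).b = g.b + d + e ∧
        (α g).b = g.b + d := by
    intro α β hα hβ g
    have h1 : (β g).a = g.a := by rw [amap_spec, hβ]
    have h2 : (α g).a = g.a := by rw [amap_spec, hα]
    exact ⟨by rw [amap_spec, hα, h1], _, _,
      by rw [diffHom_apply hα (β g), h1, diffHom_apply hβ g],
      by rw [diffHom_apply hβ (α g), h2, diffHom_apply hα g], diffHom_apply hα g⟩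
  refine ⟨⟨⟨fun α β => Subtype.ext (MulEquiv.ext fun g => ?_)⟩⟩, fun α hα => MulEquiv.ext fun g => ?_⟩
  · obtain ⟨h1, d, e, h2, h3, -⟩ := key (mem_ker_toPerm.1 α.2) (mem_ker_toPerm.1 β.2) g
    obtain ⟨h1', -⟩ := key (mem_ker_toPerm.1 β.2) (mem_ker_toPerm.1 α.2) g
    exact Heis.ext (h1.trans h1'.symm)
      (show (α.1 (β.1 g)).b = (β.1 (α.1 g)).b by rw [h2, h3]; ring)
  · rw [sq]
    show α (α g) = g
    have h := mem_ker_toPerm.1 hα
    have h1 : (α g).a = g.a := by rw [amap_spec, h]
    refine Heis.ext (by rw [amap_spec, h, h1]) ?_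
    rw [diffHom_apply h (α g), h1, diffHom_apply h g]
    linear_combination add_self (n := n) (diffHom h g.a).1

/-- A `2`-power torsion element of the field is `1`. -/
theorem eq_one_of_pow_two_pow {x : F} {k : ℕ} (h : x ^ (2 ^ k) = 1) : x = 1 := by
  have : CharP F 2 := charTwo
  exact frobenius_inj F 2 |>.iterate k (by rw [iterate_frobenius, iterate_frobenius, h, one_pow])

theorem tau_pow (α : MulAut (Heis F n)) (k : ℕ) : tau (α ^ k) = tau α ^ k := by
  induction k with
  | zero => simp [tau_one]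
  | succ k ih => rw [pow_succ, pow_succ, tau_mul, ih]

theorem lam_pow_of_tau_one {α : MulAut (Heis F n)} (h : tau α = 1) (k : ℕ) :
    amap (α ^ k) 1 = amap α 1 ^ k := by
  induction k with
  | zero => simp [amap_one]
  | succ k ih =>
    rw [pow_succ', pow_succ', lam_mul, h, ih]
    rfl

theorem lam_eq_one_of_two_power {α : MulAut (Heis F n)} (h : tau α = 1) {k : ℕ}
    (hk : α ^ (2 ^ k) = 1) : amap α 1 = 1 := by
  refine eq_one_of_pow_two_pow (n := n) (k := k) ?_
  rw [← lam_pow_of_tau_one h, hk, amap_one]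

theorem pCore_eq_ker :
    Cfsg.pCore 2 (MulAut (Heis F n)) = (toPerm : MulAut (Heis F n) →* Equiv.Perm F).ker := by
  refine le_antisymm (sSup_le ?_) (le_sSup ⟨MonoidHom.normal_ker _, IsPGroup.of_card card_ker_toPerm⟩)
  rintro N ⟨hN, hp⟩ α hα
  have htau : tau α = 1 := by
    refine RingEquiv.ext fun μ => ?_
    rcases eq_or_ne μ 0 with rfl | hμ
    · exact map_zero _
    obtain ⟨T, hT⟩ := exists_semilinear (n := n) (Units.mk0 μ hμ) (1 : F ≃+* F)
    have hT1 : amap T 1 = μ := by rw [hT]; simp
    have hTτ : tau T = 1 := param_unique (tau_spec T) fun a => by rw [hT1, hT]; rfl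
    have hmem : α * T * α⁻¹ * T⁻¹ ∈ N := by
      have h1 : T * α⁻¹ * T⁻¹ ∈ N := hN.conj_mem _ (N.inv_mem hα) T
      simpa [mul_assoc] using N.mul_mem hα h1
    obtain ⟨k, hk⟩ := hp ⟨_, hmem⟩
    have hk' : (α * T * α⁻¹ * T⁻¹) ^ (2 ^ k) = 1 := by simpa using congrArg Subtype.val hk
    have hinv : ∀ β : MulAut (Heis F n), tau β⁻¹ = (tau β)⁻¹ := fun β =>
      eq_inv_of_mul_eq_one_left (by rw [← tau_mul, inv_mul_cancel, tau_one])
    have hcτ : tau (α * T * α⁻¹ * T⁻¹) = 1 := by
      rw [tau_mul, tau_mul, tau_mul, hinv, hinv, hTτ, inv_one, mul_one, mul_one, mul_inv_cancel]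
    have hc1 := lam_eq_one_of_two_power hcτ hk'
    have e : α * T = α * T * α⁻¹ * T⁻¹ * (T * α) := by group
    have e1 := congrArg (fun β => amap β 1) e
    simp only [lam_mul, hc1, hcτ, hTτ, hT1, one_mul] at e1
    have e2 : amap α 1 * tau α μ = μ * amap α 1 := e1
    exact mul_left_cancel₀ (lam_ne_zero α) (e2.trans (mul_comm _ _))
  rw [mem_ker_toPerm]
  intro a
  obtain ⟨k, hk⟩ := hp ⟨α, hα⟩
  rw [tau_spec α a, lam_eq_one_of_two_power htau (k := k) (by simpa using congrArg Subtype.val hk),
    htau, one_mul]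
  rfl

/-- An automorphism whose square acts trivially on first coordinates fixes the centre pointwise. -/
theorem fix_center_of_sq {α : MulAut (Heis F n)} (h : ∀ a, amap (α * α) a = a) {g : Heis F n}
    (hg : g.a = 0) : α g = g := by
  have hτ : tau α * tau α = 1 := by
    rw [← tau_mul]
    refine param_unique (tau_spec _) fun a => ?_
    show amap (α * α) a = amap (α * α) 1 * a
    rw [h, h, one_mul]
  have hl : amap α 1 * tau α (amap α 1) = 1 := by rw [← lam_mul, h]
  have hz := fixed_of_a_eq_zero hg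
  have hg' : g = cen ⟨g.b, hz⟩ := Heis.ext hg rfl
  refine Heis.ext ((map_a_zero α hg).trans hg.symm) ?_
  conv_lhs => rw [hg']
  show bmap α _ = g.b
  rw [bmap_eq (tau_spec α)]
  rcases ringEquiv_sq hτ with h1 | h1
  · rw [h1] at hl ⊢
    have h2 : amap α 1 = 1 := eq_one_of_pow_two_pow (n := n) (k := 1) (by
      rw [pow_one, sq]; exact hl)
    show nm n (amap α 1) * g.b = g.b
    rw [h2, nm, cj2_one, one_mul, one_mul]
  · rw [h1] at hl ⊢
    show nm n (amap α 1) * frobQ (n := n) g.b = g.b
    rw [frobQ_apply, hz, nm, ← frobQ_apply, hl, one_mul]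

end Cfsg.Agent.H33.SylU
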