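import Mathlib
import Cfsg.Agent.H33.SylU.Embed
import Cfsg.Agent.H33.SylU.Count
import Cfsg.Prelude.Def_LieRecognition

/-!
# Transferring properties of the model
-/

set_option autoImplicit false
set_option linter.unusedSectionVars false

namespace Cfsg.Agent.H33.SylU

/-- Transport of `MulAut` along an isomorphism. -/
def autCongr {G H : Type*} [Group G] [Group H] (e : G ≃* H) : MulAut G ≃* MulAut H where
  toFun α := e.symm.trans (α.trans e)
  invFun α := e.trans (α.trans e.symm)
  left_inv α := MulEquiv.ext fun x => by simp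
  right_inv α := MulEquiv.ext fun x => by simp
  map_mul' α β := MulEquiv.ext fun x => by simp

theorem map_pCore_le {G H : Type*} [Group G] [Group H] (p : ℕ) (e : G ≃* H) :
    (Cfsg.pCore p G).map e.toMonoidHom ≤ Cfsg.pCore p H := by
  rw [Subgroup.map_le_iff_le_comap]
  refine sSup_le ?_
  rintro N ⟨hN, hp⟩
  rw [← Subgroup.map_le_iff_le_comap]
  exact le_sSup ⟨hN.map e.toMonoidHom e.surjective, hp.map e.toMonoidHom⟩

theorem map_pCore {G H : Type*} [Group G] [Group H] (p : ℕ) (e : G ≃* H) :
    (Cfsg.pCore p G).map e.toMonoidHom = Cfsg.pCore p H :=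
  le_antisymm (map_pCore_le p e)
    fun x hx => ⟨e.symm x, map_pCore_le p e.symm ⟨x, hx, rfl⟩, e.apply_symm_apply x⟩

variable {F : Type*} [Field F] [Fintype F] {n : ℕ} [hQ : QField F n]

include hQ

theorem amap_conj (h : Heis F n) (a : F) : amap (MulAut.conj h) a = a := by
  show (h * lift a * h⁻¹).a = a
  simp only [mul_a, inv_a, lift_a]
  linear_combination add_self (n := n) h.a

/-- An overgroup of index two of the model centralises its centre. -/
theorem center_le_center {R : Type*} [Group R] (S' : Subgroup R) (hidx : S'.index = 2)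
    (e : ↥S' ≃* Heis F n) :
    (Subgroup.center ↥S').map S'.subtype ≤ Subgroup.center R := by
  have hnorm : S'.Normal := Subgroup.normal_of_index_eq_two hidx
  rintro _ ⟨z, hz, rfl⟩
  rw [Subgroup.mem_center_iff]
  intro r
  by_cases hr : r ∈ S'
  · exact congrArg Subtype.val (Subgroup.mem_center_iff.1 hz ⟨r, hr⟩)
  · let c : MulAut ↥S' := MulAut.conjNormal r
    let α : MulAut (Heis F n) := autCongr e c
    have hsq : r * r ∈ S' := Subgroup.mul_self_mem_of_index_two hidx r
    have h2 : α * α = MulAut.conj (e ⟨r * r, hsq⟩) := by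
      rw [show α * α = autCongr e (c * c) from (map_mul _ _ _).symm]
      refine MulEquiv.ext fun x => ?_
      obtain ⟨s, rfl⟩ := e.surjective x
      show e ((c * c) (e.symm (e s))) = _
      rw [e.symm_apply_apply, MulAut.conj_apply, ← map_inv e, ← map_mul e, ← map_mul e]
      refine congrArg e (Subtype.ext ?_)
      simp [c, mul_assoc]
    have hfix : α (e z) = e z := by
      refine fix_center_of_sq (α := α) (fun a => by rw [h2, amap_conj]) ?_
      rw [← mem_center_iff, Subgroup.mem_center_iff]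
      intro x
      obtain ⟨s, rfl⟩ := e.surjective x
      rw [← map_mul, ← map_mul, Subgroup.mem_center_iff.1 hz s]
    have h3 : MulAut.conjNormal r z = z := e.injective (by
      rw [show e (MulAut.conjNormal r z) = α (e z) from congrArg e (congrArg _ (e.symm_apply_apply z).symm)]
      exact hfix)
    have h4 : r * (z : R) * r⁻¹ = z := by
      rw [← MulAut.conjNormal_apply r z, h3]
    exact mul_inv_eq_iff_eq_mul.1 h4

theorem isSuzukiTwoGroup {G : Type*} [Group G] (e : Heis F n ≃* G) (hn : 2 ≤ n) :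
    Cfsg.IsSuzukiTwoGroup G := by
  have hfin : Finite G := Finite.of_equiv _ e.toEquiv
  have hZ : ∀ z : Fix F n, e (cen z) * e (cen z) = 1 := fun z => by
    rw [← map_mul, mul_self_eq_one_iff.2 (cen_a z), map_one]
  have hinv : ∀ x : G, x ≠ 1 → x * x = 1 → ∃ z : Fix F n, z.1 ≠ 0 ∧ x = e (cen z) := by
    intro x hx hxx
    obtain ⟨g, rfl⟩ := e.surjective x
    rw [← map_mul, map_eq_one_iff _ e.injective, mul_self_eq_one_iff] at hxx
    refine ⟨⟨g.b, fixed_of_a_eq_zero hxx⟩, fun h => hx ?_, congrArg e (Heis.ext hxx rfl)⟩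
    rw [show g = 1 from Heis.ext hxx h, map_one]
  refine ⟨hfin, (isPGroup_heis (F := F)).of_equiv e, ?_, ?_, ?_⟩
  · obtain ⟨b, hb⟩ := exists_not_fixed (F := F)
    refine ⟨e (lift 1), e (lift b), fun h => hb ?_⟩
    rw [← map_mul, ← map_mul, e.injective.eq_iff, commute_iff, lift_a, lift_a, cj2_one, one_mul] at h
    exact tr_eq_zero_iff.1 h
  · have h4 : 2 ^ 2 ≤ Nat.card (Fix F n) := by
      rw [card_fix]; exact Nat.pow_le_pow_right two_pos hn
    classical
    let Z := {z : Fix F n // z.1 ≠ 0}
    have : ∃ z : Fix F n, z.1 ≠ 0 ∧ z.1 ≠ 1 := by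
      by_contra h
      push Not at h
      have h2 : Nat.card (Fix F n) ≤ 2 := by
        refine le_trans (Nat.card_le_card_of_injective
          (fun z : Fix F n => decide (z.1 = 0)) fun z w hzw => ?_) (by simp)
        simp only [decide_eq_decide] at hzw
        by_cases hz : z.1 = 0
        · exact Subtype.ext (hz.trans (hzw.1 hz).symm)
        · exact Subtype.ext ((h z hz).trans (h w (fun hw => hz (hzw.2 hw))).symm)
      omega
    obtain ⟨z, hz0, hz1⟩ := this
    have hne : ∀ w : Fix F n, w.1 ≠ 0 → e (cen w) ≠ 1 := fun w hw h => hw (by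
      rw [map_eq_one_iff _ e.injective] at h
      exact congrArg Heis.b h)
    refine ⟨e (cen z), e (cen ⟨1, cj2_one⟩), fun h => hz1 ?_, hne z hz0, hZ z,
      hne _ one_ne_zero, hZ _⟩
    exact congrArg Heis.b (e.injective h)
  · let f : fixUnits F n →* MulAut G := (autCongr e).toMonoidHom.comp torusAut
    refine ⟨f.range, isCyclic_of_surjective _ f.rangeRestrict_surjective, ?_⟩
    intro x y hx hxx hy hyy
    obtain ⟨z, hz0, rfl⟩ := hinv x hx hxx
    obtain ⟨w, hw0, rfl⟩ := hinv y hy hyy
    have happ : ∀ u : fixUnits F n,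
        f u (e (cen z)) = e (cen ⟨((u : Fˣ) : F) * ((u : Fˣ) : F) * z.1, by
          rw [cj2_mul, cj2_mul, u.2, z.2]⟩) := by
      intro u
      show e (torusAut u (e.symm (e (cen z)))) = _
      rw [e.symm_apply_apply]
      exact congrArg e (Heis.ext (mul_zero _) rfl)
    obtain ⟨a, ha⟩ := exists_nm_eq (F := F) (n := n) (z := w.1 / z.1)
      (by rw [cj2, div_pow]; exact congrArg₂ (· / ·) w.2 z.2)
    -- square root of `w / z` in the fixed field
    have : CharP F 2 := charTwo
    obtain ⟨s, hs⟩ : ∃ s : F, s ^ 2 = w.1 / z.1 :=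
      (bijective_frobenius F 2).2 _
    have hsfix : cj2 n s = s := by
      refine frobenius_inj F 2 ?_
      show (cj2 n s) ^ 2 = s ^ 2
      rw [cj2, ← pow_mul, mul_comm, pow_mul, hs, ← cj2, cj2, div_pow]
      exact congrArg₂ (· / ·) w.2 z.2
    have hs0 : s ≠ 0 := by
      rintro rfl
      rw [zero_pow two_ne_zero] at hs
      exact div_ne_zero hw0 hz0 hs.symm
    refine ⟨⟨f ⟨Units.mk0 s hs0, hsfix⟩, ⟨_, rfl⟩⟩, ?_, ?_⟩
    · show f ⟨Units.mk0 s hs0, hsfix⟩ (e (cen z)) = e (cen w)
      rw [happ]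
      refine congrArg e (Heis.ext rfl ?_)
      show s * s * z.1 = w.1
      rw [← sq, hs, div_mul_cancel₀ _ hz0]
    · rintro ⟨_, u, rfl⟩ hu
      have h1 : ((u : Fˣ) : F) * ((u : Fˣ) : F) * z.1 = w.1 := by
        have h0 : f u (e (cen z)) = e (cen w) := hu
        rw [happ] at h0
        exact congrArg Heis.b (e.injective h0)
      have h2 : ((u : Fˣ) : F) = s := frobenius_inj F 2 (by
        show ((u : Fˣ) : F) ^ 2 = s ^ 2
        rw [hs, eq_div_iff hz0, sq, h1])
      exact Subtype.ext (congrArg f (Subtype.ext (Units.ext h2)))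

end Cfsg.Agent.H33.SylU
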